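import Mathlib

/-! Hall–Higman Theorem B: linear-algebra lemmas. -/

set_option autoImplicit false

namespace Cfsg.Agent.HHB

open Polynomial

theorem geo (K : Type*) {R : Type*} [Field K] [Ring R] [Algebra K R] (p : ℕ) [hp : Fact p.Prime]
    [CharP K p] (n : ℕ) (Y : R) :
    ∑ i ∈ Finset.range (p ^ n), Y ^ i = (Y - 1) ^ (p ^ n - 1) := by
  have h : ∑ i ∈ Finset.range (p ^ n), (X : K[X]) ^ i = (X - 1) ^ (p ^ n - 1) := by
    apply mul_right_cancel₀ (b := (X - 1 : K[X])) (by simpa using X_sub_C_ne_zero (1 : K))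
    rw [geom_sum_mul, ← pow_succ, Nat.sub_add_cancel (Nat.one_le_pow _ _ hp.out.pos),
      sub_pow_char_pow, one_pow]
  simpa using congrArg (aeval Y) h

theorem frob (K : Type*) {R : Type*} [Field K] [Ring R] [Algebra K R] (p : ℕ) [hp : Fact p.Prime]
    [CharP K p] (n : ℕ) (Y : R) : (Y - 1) ^ (p ^ n) = Y ^ (p ^ n) - 1 := by
  have h : ((X : K[X]) - 1) ^ (p ^ n) = X ^ (p ^ n) - 1 := by rw [sub_pow_char_pow, one_pow]
  simpa using congrArg (aeval Y) h

/-- conjugation by a unit, as a linear map -/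
noncomputable def cj (K : Type*) {R : Type*} [Field K] [Ring R] [Algebra K R] (x : Rˣ) :
    Module.End K R := LinearMap.mulLeftRight K ((x : R), ((x⁻¹ : Rˣ) : R))

theorem cj_apply {K R : Type*} [Field K] [Ring R] [Algebra K R] (x : Rˣ) (f : R) :
    cj K x f = (x : R) * f * ((x⁻¹ : Rˣ) : R) := by simp [cj]

theorem cj_pow {K R : Type*} [Field K] [Ring R] [Algebra K R] (x : Rˣ) (k : ℕ) :
    cj K x ^ k = cj K (x ^ k) := by
  induction k with
  | zero => ext f; simp [cj_apply]
  | succ k ih =>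
    ext f
    rw [pow_succ', Module.End.mul_apply, ih, cj_apply, cj_apply, cj_apply, pow_succ', mul_inv_rev]
    simp [mul_assoc]

theorem tr_left {K R : Type*} [Field K] [Ring R] [Algebra K R] (x : Rˣ) {r d k : ℕ}
    (hr : ((x : R) - 1) ^ r = 0) (hd : d + r ≤ k + 1) (h : R) :
    ∃ a, ((cj K x - 1) ^ k) h = ((x : R) - 1) ^ d * a := by
  set s : R := (x : R) - 1 with hs
  let M : ℕ → AddSubgroup R := fun k =>
    AddSubgroup.closure {a | ∃ (i j : ℕ) (b : R), i + j = k ∧ a = s ^ i * b * s ^ j}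
  have c1 : Commute (x : R) s := (Commute.refl _).sub_right (Commute.one_right _)
  have c2 : Commute ((x⁻¹ : Rˣ) : R) s := c1.units_inv_left
  have step : ∀ k, ∀ a ∈ M k, (cj K x - 1) a ∈ M (k + 1) := by
    intro k a ha
    induction ha using AddSubgroup.closure_induction with
    | mem a ha =>
      obtain ⟨i, j, b, hij, rfl⟩ := ha
      have e : (cj K x - 1) (s ^ i * b * s ^ j) =
          s ^ (i + 1) * (b * ((x⁻¹ : Rˣ) : R)) * s ^ j - s ^ i * (b * ((x⁻¹ : Rˣ) : R)) * s ^ (j + 1) := by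
        rw [LinearMap.sub_apply, cj_apply, Module.End.one_apply]
        have e1 : (x : R) * (s ^ i * b * s ^ j) * ((x⁻¹ : Rˣ) : R) =
            s ^ i * ((x : R) * b * ((x⁻¹ : Rˣ) : R)) * s ^ j := by
          rw [← mul_assoc, ← mul_assoc, (c1.pow_right i).eq, mul_assoc _ (s ^ j),
            ← (c2.pow_right j).eq]
          simp only [mul_assoc]
        have e2 : s * (b * ((x⁻¹ : Rˣ) : R)) - b * ((x⁻¹ : Rˣ) : R) * s =
            (x : R) * b * ((x⁻¹ : Rˣ) : R) - b := by
          rw [hs, sub_mul, mul_sub, mul_assoc b, Units.inv_mul]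
          simp [mul_assoc]
        rw [e1, pow_succ, pow_succ' s j]
        calc _ = s ^ i * ((x : R) * b * ((x⁻¹ : Rˣ) : R) - b) * s ^ j := by noncomm_ring
          _ = _ := by rw [← e2]; noncomm_ring
      rw [e]
      exact sub_mem (AddSubgroup.subset_closure ⟨i + 1, j, _, by omega, rfl⟩)
        (AddSubgroup.subset_closure ⟨i, j + 1, _, by omega, rfl⟩)
    | zero => simp
    | add a b _ _ ha hb => rw [map_add]; exact add_mem ha hb
    | neg a _ ha => rw [map_neg]; exact neg_mem ha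
  have hM : ∀ k, ((cj K x - 1) ^ k) h ∈ M k := by
    intro k
    induction k with
    | zero => exact AddSubgroup.subset_closure ⟨0, 0, h, rfl, by simp⟩
    | succ k ih => rw [pow_succ', Module.End.mul_apply]; exact step k _ ih
  have := hM k
  generalize ((cj K x - 1) ^ k) h = a at this
  induction this using AddSubgroup.closure_induction with
  | mem a ha =>
    obtain ⟨i, j, b, hij, rfl⟩ := ha
    by_cases hj : r ≤ j
    · obtain ⟨t, rfl⟩ := Nat.exists_eq_add_of_le hj
      exact ⟨0, by rw [pow_add, hr]; simp⟩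
    · obtain ⟨t, rfl⟩ := Nat.exists_eq_add_of_le (show d ≤ i by omega)
      exact ⟨s ^ t * b * s ^ j, by rw [pow_add]; simp only [mul_assoc]⟩
  | zero => exact ⟨0, by simp⟩
  | add a b _ _ ha hb =>
    obtain ⟨a', rfl⟩ := ha
    obtain ⟨b', rfl⟩ := hb
    exact ⟨a' + b', by rw [mul_add]⟩
  | neg a _ ha =>
    obtain ⟨a', rfl⟩ := ha
    exact ⟨-a', by rw [mul_neg]⟩

theorem orbit_sum {Γ K M : Type*} [Group Γ] [Field K] [AddCommGroup M] [Module K M] (x : Γ) {P : ℕ}
    (hP : 0 < P) (hx : x ^ P = 1) (F : Γ → M) (Y : Module.End K M)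
    (hF : ∀ g, F (x * g * x⁻¹) = Y (F g)) (S : Finset Γ) (hS : ∀ g ∈ S, x * g * x⁻¹ ∈ S)
    (hfr : ∀ g ∈ S, ∀ i, 0 < i → i < P → x ^ i * g ≠ g * x ^ i) :
    ∃ h, ∑ g ∈ S, F g = (∑ i ∈ Finset.range P, Y ^ i) h := by
  classical
  induction S using Finset.strongInduction with
  | H S ih =>
  rcases S.eq_empty_or_nonempty with rfl | ⟨g, hg⟩
  · exact ⟨0, by simp⟩
  let c : ℕ → Γ := fun i => x ^ i * g * (x ^ i)⁻¹
  have cs : ∀ i, c (i + 1) = x * c i * x⁻¹ := fun i => by simp only [c, pow_succ']; group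
  have cS : ∀ i, c i ∈ S := by
    intro i
    induction i with
    | zero => simpa [c] using hg
    | succ i ih => rw [cs]; exact hS _ ih
  have cF : ∀ i, F (c i) = (Y ^ i) (F g) := by
    intro i
    induction i with
    | zero => simp [c]
    | succ i ih => rw [cs, hF, ih, pow_succ', Module.End.mul_apply]
  have cinj : ∀ i j, i < j → j < P → c i ≠ c j := by
    intro i j hij hj e
    obtain ⟨t, rfl⟩ := Nat.exists_eq_add_of_lt hij
    apply hfr g hg (t + 1) (by omega) (by omega)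
    have e' : x ^ i * g * (x ^ i)⁻¹ = x ^ i * (x ^ (t + 1) * g * (x ^ (t + 1))⁻¹) * (x ^ i)⁻¹ := by
      have : x ^ i * g * (x ^ i)⁻¹ = x ^ (i + t + 1) * g * (x ^ (i + t + 1))⁻¹ := e
      rw [this, add_assoc, pow_add]; group
    have e2 := mul_left_cancel (mul_right_cancel e')
    calc x ^ (t + 1) * g = x ^ (t + 1) * g * (x ^ (t + 1))⁻¹ * x ^ (t + 1) := by group
      _ = g * x ^ (t + 1) := by rw [← e2]
  let O := (Finset.range P).image c
  have hO : O ⊆ S := by
    intro a ha
    obtain ⟨i, -, rfl⟩ := Finset.mem_image.1 ha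
    exact cS i
  have hg0 : g ∈ O := Finset.mem_image.2 ⟨0, Finset.mem_range.2 hP, by simp [c]⟩
  obtain ⟨h, hh⟩ := ih (S \ O) (Finset.sdiff_ssubset hO ⟨g, hg0⟩) (by
      intro a ha
      rw [Finset.mem_sdiff] at ha ⊢
      refine ⟨hS _ ha.1, fun h' => ha.2 ?_⟩
      obtain ⟨i, hi, e⟩ := Finset.mem_image.1 h'
      rw [Finset.mem_range] at hi
      rcases i with _ | i
      · refine Finset.mem_image.2 ⟨P - 1, Finset.mem_range.2 (by omega), ?_⟩
        have h1 := cs (P - 1)
        rw [Nat.sub_add_cancel hP] at h1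
        have h2 : c P = c 0 := by simp [c, hx]
        rw [h2, e] at h1
        exact (mul_left_cancel (mul_right_cancel h1)).symm
      · refine Finset.mem_image.2 ⟨i, Finset.mem_range.2 (by omega), ?_⟩
        rw [cs] at e
        exact mul_left_cancel (mul_right_cancel e))
    (fun a ha => hfr a (Finset.mem_sdiff.1 ha).1)
  refine ⟨h + F g, ?_⟩
  rw [← Finset.sum_sdiff hO, hh, map_add, Finset.sum_image, LinearMap.sum_apply _ _ (F g)]
  · simp only [cF]
  · intro i hi j hj e
    rw [Finset.coe_range, Set.mem_Iio] at hi hj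
    by_contra hne
    rcases lt_or_gt_of_ne hne with h' | h'
    · exact cinj i j h' hj e
    · exact cinj j i h' hi e.symm

end Cfsg.Agent.HHB
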