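import Cfsg.Agent.HHB.A

/-! Hall–Higman Theorem B: the extraspecial configuration. -/

set_option autoImplicit false

namespace Cfsg.Agent.HHB

open Module

variable {K V : Type*} [Field K] [AddCommGroup V] [Module K V]

/-- irreducibility under `Q` and `x` -/
def Irr (Q : Subgroup (End K V)ˣ) (x : (End K V)ˣ) : Prop :=
  ∀ W : Submodule K V, (∀ g ∈ Q, ∀ v ∈ W, (g : End K V) v ∈ W) → (∀ v ∈ W, (x : End K V) v ∈ W) →
    W = ⊥ ∨ W = ⊤

theorem Irr.schur [IsAlgClosed K] [FiniteDimensional K V] [Nontrivial V] {Q : Subgroup (End K V)ˣ}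
    {x : (End K V)ˣ} (h : Irr Q x) {b : End K V} (h1 : ∀ g ∈ Q, (g : End K V) * b = b * g)
    (h2 : (x : End K V) * b = b * x) : ∃ c : K, b = c • 1 := by
  obtain ⟨c, hc⟩ := End.exists_eigenvalue b
  have key : ∀ g : End K V, g * b = b * g → ∀ v ∈ b.eigenspace c, g v ∈ b.eigenspace c := by
    intro g hg v hv
    rw [End.mem_eigenspace_iff] at hv ⊢
    rw [← End.mul_apply, ← hg, End.mul_apply, hv, map_smul]
  rcases h (b.eigenspace c) (fun g hg => key _ (h1 g hg)) (key _ h2) with h' | h'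
  · exact absurd h' hc
  · refine ⟨c, LinearMap.ext fun v => ?_⟩
    have : v ∈ b.eigenspace c := h' ▸ Submodule.mem_top
    simpa using End.mem_eigenspace_iff.1 this

/-- averaging over a finite set of units -/
noncomputable def av (S : Finset (End K V)ˣ) : End K (End K V) := ∑ h ∈ S, cj K h

theorem av_apply (S : Finset (End K V)ˣ) (f : End K V) :
    av S f = ∑ h ∈ S, (h : End K V) * f * ((h⁻¹ : (End K V)ˣ) : End K V) := by
  simp [av, cj_apply]

section
variable {Q : Subgroup (End K V)ˣ} {S : Finset (End K V)ˣ}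

theorem sum_left {M : Type*} [AddCommMonoid M] (hS : ∀ g, g ∈ S ↔ g ∈ Q) {g : (End K V)ˣ}
    (hg : g ∈ Q) (F : (End K V)ˣ → M) : ∑ h ∈ S, F (g * h) = ∑ h ∈ S, F h := by
  refine Finset.sum_nbij' (fun h => g * h) (fun h => g⁻¹ * h) ?_ ?_ ?_ ?_ ?_
  · intro h hh; exact (hS _).2 (mul_mem hg ((hS _).1 hh))
  · intro h hh; exact (hS _).2 (mul_mem (inv_mem hg) ((hS _).1 hh))
  · intro h _; simp
  · intro h _; simp
  · intro h _; rfl

theorem av_comm (hS : ∀ g, g ∈ S ↔ g ∈ Q) {g : (End K V)ˣ} (hg : g ∈ Q) (f : End K V) :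
    (g : End K V) * av S f = av S f * g := by
  have : (g : End K V) * av S f * ((g⁻¹ : (End K V)ˣ) : End K V) = av S f := by
    rw [av_apply, Finset.mul_sum, Finset.sum_mul,
      ← sum_left hS hg fun h => (h : End K V) * f * ((h⁻¹ : (End K V)ˣ) : End K V)]
    refine Finset.sum_congr rfl fun h _ => ?_
    simp [mul_assoc]
  conv_rhs => rw [← this]
  simp [mul_assoc]

theorem av_cj (hS : ∀ g, g ∈ S ↔ g ∈ Q) {x : (End K V)ˣ} (hx : ∀ g, g ∈ Q ↔ x * g * x⁻¹ ∈ Q)
    (f : End K V) : cj K x (av S f) = av S (cj K x f) := by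
  rw [av_apply, av_apply, map_sum]
  refine Finset.sum_nbij' (fun h => x * h * x⁻¹) (fun h => x⁻¹ * h * x) ?_ ?_ ?_ ?_ ?_
  · intro h hh; exact (hS _).2 ((hx _).1 ((hS _).1 hh))
  · intro h hh; exact (hS _).2 ((hx _).2 (by simpa [mul_assoc] using (hS _).1 hh))
  · intro h _; simp [mul_assoc]
  · intro h _; simp [mul_assoc]
  · intro h _; simp [cj_apply, mul_assoc]

theorem av_smul_one (c : K) : av S (c • (1 : End K V)) = ((S.card : K) * c) • 1 := by
  rw [av_apply]
  simp [mul_smul, Nat.cast_smul_eq_nsmul]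

theorem av_expand (f : End K V) :
    ∑ g ∈ S, av S (f * g) * ((g⁻¹ : (End K V)ˣ) : End K V) =
      ∑ h ∈ S, (h : End K V) * f * av S ((h⁻¹ : (End K V)ˣ) : End K V) := by
  simp only [av_apply, Finset.sum_mul, Finset.mul_sum]
  rw [Finset.sum_comm]
  simp only [mul_assoc]

/-- the centre of `Q` -/
def Zc (Q : Subgroup (End K V)ˣ) : Subgroup (End K V)ˣ := Q ⊓ Subgroup.centralizer (Q : Set _)

theorem mem_Zc {g : (End K V)ˣ} : g ∈ Zc Q ↔ g ∈ Q ∧ ∀ h ∈ Q, h * g = g * h := Iff.rfl

theorem av_zero (hS : ∀ g, g ∈ S ↔ g ∈ Q) (hsc : ∀ z ∈ Zc Q, ∃ c : K, (z : End K V) = c • 1)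
    (hcl : ∀ g ∈ Q, ∀ h ∈ Q, g * h * g⁻¹ * h⁻¹ ∈ Zc Q) {h : (End K V)ˣ} (hh : h ∈ Q)
    (hz : h ∉ Zc Q) : av S (h : End K V) = 0 := by
  obtain ⟨g, hg, hne⟩ : ∃ g ∈ Q, g * h ≠ h * g := by
    by_contra hcon
    push Not at hcon
    exact hz ⟨hh, hcon⟩
  obtain ⟨c, hc⟩ := hsc _ (hcl g hg h hh)
  have h1 : av S (h : End K V) = av S ((g * h * g⁻¹ : (End K V)ˣ) : End K V) := by
    rw [av_apply, av_apply]
    refine Finset.sum_nbij' (fun k => k * g⁻¹) (fun k => k * g) ?_ ?_ ?_ ?_ ?_
    · intro k hk; exact (hS _).2 (mul_mem ((hS _).1 hk) (inv_mem hg))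
    · intro k hk; exact (hS _).2 (mul_mem ((hS _).1 hk) hg)
    · intro k _; simp
    · intro k _; simp
    · intro k _; simp [mul_assoc]
  have h2 : ((g * h * g⁻¹ : (End K V)ˣ) : End K V) = c • (h : End K V) := by
    rw [show g * h * g⁻¹ = (g * h * g⁻¹ * h⁻¹) * h by group, Units.val_mul, hc]; simp
  rw [h2, map_smul] at h1
  have h3 : c ≠ 1 := by
    rintro rfl
    apply hne
    have : g * h * g⁻¹ * h⁻¹ = 1 := Units.ext (by simpa using hc)
    calc g * h = (g * h * g⁻¹ * h⁻¹) * (h * g) := by group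
      _ = h * g := by rw [this, one_mul]
  have : (1 - c) • av S (h : End K V) = 0 := by rw [sub_smul, one_smul, ← h1, sub_self]
  exact (smul_eq_zero.1 this).resolve_left (sub_ne_zero.2 h3.symm)

open Classical in
theorem av_id (hS : ∀ g, g ∈ S ↔ g ∈ Q) (hsc : ∀ z ∈ Zc Q, ∃ c : K, (z : End K V) = c • 1)
    (hcl : ∀ g ∈ Q, ∀ h ∈ Q, g * h * g⁻¹ * h⁻¹ ∈ Zc Q) (f : End K V) :
    ∑ g ∈ S, av S (f * g) * ((g⁻¹ : (End K V)ˣ) : End K V) =
      (((S.filter (· ∈ Zc Q)).card : K) * S.card) • f := by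
  rw [av_expand, ← Finset.sum_filter_add_sum_filter_not S (· ∈ Zc Q),
    Finset.sum_eq_zero (s := S.filter fun a => ¬ a ∈ Zc Q), add_zero,
    Finset.sum_congr rfl (g := fun _ => (S.card : K) • f), Finset.sum_const, mul_smul,
    Nat.cast_smul_eq_nsmul K (S.filter (· ∈ Zc Q)).card]
  · intro h hh
    rw [Finset.mem_filter] at hh
    obtain ⟨c, hc⟩ := hsc _ hh.2
    obtain ⟨d, hd⟩ := hsc _ (inv_mem hh.2)
    have : (c * d) • (1 : End K V) = 1 := by
      have := h.mul_inv
      rw [hc, hd] at this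
      simpa [smul_smul, mul_comm] using this
    rw [hd, av_smul_one, hc]
    calc _ = (S.card : K) • (((c * d) • (1 : End K V)) * f) := by
          simp only [smul_mul_assoc, mul_smul_comm, one_mul, mul_one, smul_smul]; ring_nf
      _ = _ := by rw [this, one_mul]
  · intro h hh
    rw [Finset.mem_filter] at hh
    rw [av_zero hS hsc hcl (inv_mem ((hS _).1 hh.1)) (fun h' => hh.2 (by simpa using inv_mem h')),
      mul_zero]

theorem surj_nil [Nontrivial V] {s a : End K V} {r : ℕ} (hr : s ^ r = 0) (h : s * a = 1)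
    (hc : Commute s a ∨ True) : False := by
  have : ∀ k, ∀ v : V, ∃ w, (s ^ k) w = v := by
    intro k
    induction k with
    | zero => intro v; exact ⟨v, rfl⟩
    | succ k ih =>
      intro v
      obtain ⟨w, rfl⟩ := ih v
      exact ⟨a w, by rw [pow_succ, End.mul_apply, ← End.mul_apply s a, h]; rfl⟩
  obtain ⟨v, hv⟩ := exists_ne (0 : V)
  obtain ⟨w, rfl⟩ := this r v
  exact hv (by rw [hr]; rfl)

theorem fin [IsAlgClosed K] [FiniteDimensional K V] [Nontrivial V] {p q n : ℕ} [hp : Fact p.Prime]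
    [CharP K p] [hq : Fact q.Prime] (hpq : q ≠ p) [Finite Q] (hQ : IsPGroup q Q)
    {x : (End K V)ˣ} (hn : 1 ≤ n) (hxP : x ^ (p ^ n) = 1)
    (hx : ∀ g, g ∈ Q ↔ x * g * x⁻¹ ∈ Q) (hirr : Irr Q x)
    (hsc : ∀ z ∈ Zc Q, ∃ c : K, (z : End K V) = c • 1)
    (hcl : ∀ g ∈ Q, ∀ h ∈ Q, g * h * g⁻¹ * h⁻¹ ∈ Zc Q)
    (hfr : ∀ g ∈ Q, g ∉ Zc Q → ∀ i, 0 < i → i < p ^ n → x ^ i * g ≠ g * x ^ i)
    (hnc : ∃ g ∈ Q, g ∉ Zc Q) (hs : ((x : End K V) - 1) ^ (p ^ n - 1) = 0) :
    ∃ m, 1 ≤ m ∧ p ^ n - 1 = q ^ m ∧ ((x : End K V) - 1) ^ (p ^ n - 1 - 1) ≠ 0 := by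
  classical
  set s : End K V := (x : End K V) - 1 with hsdef
  set P := p ^ n with hP
  have hP2 : 2 ≤ P := hp.out.two_le.trans (Nat.le_self_pow (by omega) p)
  let S : Finset (End K V)ˣ := (Set.toFinite (Q : Set (End K V)ˣ)).toFinset
  have hS : ∀ g, g ∈ S ↔ g ∈ Q := fun g => Set.Finite.mem_toFinset _
  have cne : ∀ T : Subgroup (End K V)ˣ, T ≤ Q → ∀ U : Finset (End K V)ˣ, (∀ g, g ∈ U ↔ g ∈ T) →
      (U.card : K) ≠ 0 := by
    intro T hT U hU h0
    have : Finite T := Finite.of_injective _ (Subgroup.inclusion_injective hT)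
    obtain ⟨k, hk⟩ := (hQ.to_le hT).exists_card_eq
    have : Nat.card T = U.card := Nat.subtype_card U hU
    rw [CharP.cast_eq_zero_iff K p, ← this, hk] at h0
    exact hpq ((Nat.prime_dvd_prime_iff_eq hp.out hq.out).1 (hp.out.dvd_of_dvd_pow h0)).symm
  have hS0 : (S.card : K) ≠ 0 := cne Q le_rfl S hS
  have hZ0 : ((S.filter (· ∈ Zc Q)).card : K) ≠ 0 := cne (Zc Q) inf_le_left _ fun g => by
    rw [Finset.mem_filter, hS]; exact ⟨fun h => h.2, fun h => ⟨h.1, h⟩⟩
  have hcj : ∀ f : End K V, cj K x f = f ↔ (x : End K V) * f = f * x := by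
    intro f
    rw [cj_apply]
    exact Units.mul_inv_eq_iff_eq_mul _
  -- the decomposition of an endomorphism commuting with `x`
  have hE : ∀ (r d : ℕ), s ^ r = 0 → d + r ≤ P → ∀ f : End K V, (x : End K V) * f = f * x →
      ∃ (β : K) (a : End K V), f = β • 1 + s ^ d * a := by
    intro r d hr hd f hf
    obtain ⟨β, hβ⟩ := hirr.schur (b := av S f) (fun g hg => av_comm hS hg f)
      ((hcj _).1 (by rw [av_cj hS hx, (hcj _).2 hf]))
    have h1 := av_id hS hsc hcl f
    rw [← Finset.sum_filter_add_sum_filter_not S (· ∈ Zc Q)] at h1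
    have h2 : ∑ g ∈ S.filter (· ∈ Zc Q), av S (f * g) * ((g⁻¹ : (End K V)ˣ) : End K V) =
        ((S.filter (· ∈ Zc Q)).card * β) • 1 := by
      rw [Finset.sum_congr rfl (g := fun _ => β • (1 : End K V)), Finset.sum_const, mul_smul,
        Nat.cast_smul_eq_nsmul]
      intro g hg
      obtain ⟨c, hc⟩ := hsc _ (Finset.mem_filter.1 hg).2
      rw [hc, mul_smul_comm, mul_one, map_smul, hβ, smul_comm, smul_mul_assoc, ← hc, Units.mul_inv]
    obtain ⟨h, h3⟩ := orbit_sum (K := K) x (by omega : 0 < P) hxP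
      (fun g => av S (f * g) * ((g⁻¹ : (End K V)ˣ) : End K V)) (cj K x) (fun g => by
        have e : cj K x (f * g) = f * ((x * g * x⁻¹ : (End K V)ˣ) : End K V) := by
          rw [cj_apply, ← mul_assoc, hf]; simp [mul_assoc]
        rw [← e, ← av_cj hS hx, cj_apply, cj_apply]; simp [mul_assoc])
      (S.filter fun a => ¬ a ∈ Zc Q) (fun g hg => by
        rw [Finset.mem_filter, hS] at hg ⊢
        refine ⟨(hx g).1 hg.1, fun h' => hg.2 ⟨hg.1, fun k hk => ?_⟩⟩
        have := h'.2 _ ((hx k).1 hk)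
        calc k * g = x⁻¹ * (x * k * x⁻¹ * (x * g * x⁻¹)) * x := by group
          _ = g * k := by rw [this]; group)
      (fun g hg => by
        rw [Finset.mem_filter, hS] at hg
        exact hfr g hg.1 hg.2)
    rw [h2, h3, geo K p n] at h1
    obtain ⟨a, ha⟩ := tr_left (K := K) x (r := r) (d := d) (k := p ^ n - 1) hr (by omega) h
    rw [ha] at h1
    set c : K := ((S.filter (· ∈ Zc Q)).card : K) * S.card with hc
    have hc0 : c ≠ 0 := mul_ne_zero hZ0 hS0
    refine ⟨c⁻¹ * ((S.filter (· ∈ Zc Q)).card * β), c⁻¹ • a, ?_⟩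
    rw [mul_smul, mul_smul_comm, ← smul_add, h1, smul_smul, inv_mul_cancel₀ hc0, one_smul]
  have cxs : Commute (x : End K V) s := (Commute.refl _).sub_right (Commute.one_right _)
  have hs0 : s ≠ 0 := by
    intro h0
    obtain ⟨g, hg, hgz⟩ := hnc
    have : x = 1 := Units.ext (sub_eq_zero.1 h0)
    exact hfr g hg hgz 1 one_pos (by omega) (by simp [this])
  -- the nilpotency index is `P - 1`
  have hidx : s ^ (P - 1 - 1) ≠ 0 := by
    intro h0
    obtain ⟨β, a, h1⟩ := hE (P - 1 - 1) 2 h0 (by omega) s cxs.eq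
    by_cases hβ : β = 0
    · rw [hβ, zero_smul, zero_add] at h1
      have : ∀ k, ∃ b, s = s ^ (k + 1) * b := by
        intro k
        induction k with
        | zero => exact ⟨1, by simp⟩
        | succ k ih =>
          obtain ⟨b, hb⟩ := ih
          refine ⟨a * b, ?_⟩
          calc s = s ^ k * s * b := by rw [← pow_succ, ← hb]
            _ = s ^ k * (s ^ 2 * a) * b := by rw [← h1]
            _ = _ := by rw [← mul_assoc, ← pow_add, mul_assoc]
      obtain ⟨b, hb⟩ := this (P - 1 - 1)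
      rw [pow_succ, h0] at hb
      exact hs0 (by simpa using hb)
    · refine surj_nil hs (a := β⁻¹ • (1 - s * a)) ?_ (Or.inr trivial)
      rw [mul_smul_comm, mul_sub, mul_one, ← mul_assoc, ← pow_two, eq_sub_of_add_eq h1.symm |>.symm,
        smul_smul, inv_mul_cancel₀ hβ, one_smul]
  -- `V` is cyclic, of dimension `P - 1`
  have hD : finrank K V = P - 1 := by
    obtain ⟨r, hr⟩ : ∃ r, P - 1 = r + 1 := ⟨P - 2, by omega⟩
    rw [hr] at hs hidx ⊢
    rw [Nat.add_sub_cancel] at hidx
    apply le_antisymm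
    · obtain ⟨w, hw⟩ : ∃ w, (s ^ r) w ≠ 0 := by
        by_contra hcon
        push Not at hcon
        exact hidx (LinearMap.ext hcon)
      obtain ⟨φ, hφ⟩ := Module.Projective.exists_dual_eq_one K hw
      let f : End K V := ∑ i ∈ Finset.range (r + 1), (φ ∘ₗ (s ^ i)).smulRight ((s ^ (r - i)) w)
      have hf : ∀ u, f u = ∑ i ∈ Finset.range (r + 1), φ ((s ^ i) u) • (s ^ (r - i)) w := by
        intro u; simp [f]
      have hsf : s * f = f * s := by
        ext u
        rw [End.mul_apply, End.mul_apply, hf, hf, map_sum, Finset.sum_range_succ',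
          Finset.sum_range_succ]
        congr 1
        · refine Finset.sum_congr rfl fun i hi => ?_
          rw [Finset.mem_range] at hi
          rw [map_smul, ← End.mul_apply s, ← pow_succ', ← End.mul_apply (s ^ i), ← pow_succ,
            show r - (i + 1) + 1 = r - i by omega]
        · rw [map_smul, ← End.mul_apply s, ← pow_succ', ← End.mul_apply (s ^ r), ← pow_succ,
            Nat.sub_zero, hs]
          simp
      have hxf : (x : End K V) * f = f * x := by
        have : (x : End K V) = s + 1 := by rw [hsdef, sub_add_cancel]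
        rw [this, add_mul, mul_add, hsf, one_mul, mul_one]
      obtain ⟨β, a, h1⟩ := hE (r + 1) 1 hs (by omega) f hxf
      have hβ : β = 1 := by
        have h2 := congrArg (fun t : End K V => φ ((s ^ r) (t w))) h1
        simp only [LinearMap.add_apply, LinearMap.smul_apply, End.one_apply, map_add, map_smul,
          hφ] at h2
        rw [← End.mul_apply (s ^ r) (s ^ 1 * a), ← mul_assoc, ← pow_add, hs, zero_mul, hf, map_sum,
          Finset.sum_range_succ, Finset.sum_eq_zero, Nat.sub_self, pow_zero, End.one_apply, hφ,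
          one_smul, zero_add, hφ] at h2
        · simpa using h2.symm
        · intro i hi
          rw [Finset.mem_range] at hi
          rw [map_smul, ← End.mul_apply (s ^ r), ← pow_add,
            show r + (r - i) = (r - i - 1) + (r + 1) by omega, pow_add, hs]
          simp
      let C : Submodule K V := Submodule.span K (Set.range fun i : Fin (r + 1) => (s ^ (i : ℕ)) w)
      have hC : ∀ j, (s ^ j) w ∈ C := by
        intro j
        by_cases hj : j < r + 1
        · exact Submodule.subset_span ⟨⟨j, hj⟩, rfl⟩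
        · rw [show j = (j - (r + 1)) + (r + 1) by omega, pow_add, hs]; simp
      have hfC : ∀ k u, (s ^ k) (f u) ∈ C := by
        intro k u
        rw [hf, map_sum]
        refine Submodule.sum_mem _ fun i _ => ?_
        rw [map_smul, ← End.mul_apply, ← pow_add]
        exact C.smul_mem _ (hC _)
      have hall : ∀ k u, ∃ c ∈ C, ∃ u', u = c + (s ^ k) u' := by
        intro k
        induction k with
        | zero => intro u; exact ⟨0, zero_mem _, u, by simp⟩
        | succ k ih =>
          intro u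
          obtain ⟨c, hc, u', rfl⟩ := ih u
          refine ⟨c + (s ^ k) (f u'), add_mem hc (hfC _ _), -(a u'), ?_⟩
          have : f u' = u' + s (a u') := by rw [h1, hβ]; simp
          rw [this, map_add, pow_succ, End.mul_apply, map_neg, map_neg]; abel
      have hCt : C = ⊤ := by
        refine eq_top_iff.2 fun u _ => ?_
        obtain ⟨c, hc, u', rfl⟩ := hall (r + 1) u
        rw [hs]; simpa using hc
      rw [← finrank_top, ← hCt]
      exact (finrank_range_le_card _).trans (by simp)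
    · by_contra hlt
      apply hidx
      have h1 : IsNilpotent s := ⟨_, hs⟩
      have h2 := LinearMap.aeval_self_charpoly s
      rw [(LinearMap.isNilpotent_iff_charpoly s).1 h1, map_pow, Polynomial.aeval_X] at h2
      rw [show r = (r - finrank K V) + finrank K V by omega, pow_add, h2, mul_zero]
  have hD0 : (finrank K V : K) ≠ 0 := by
    rw [hD, Nat.cast_sub (by omega), hP, Nat.cast_pow, CharP.cast_eq_zero K p, zero_pow (by omega)]
    simp
  -- the centraliser of `Q` consists of scalars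
  have hB : ∀ b : End K V, (∀ g ∈ Q, (g : End K V) * b = b * g) → ∃ c : K, b = c • 1 := by
    have key : ∀ k : ℕ, ∀ b : End K V, (∀ g ∈ Q, (g : End K V) * b = b * g) →
        ((cj K x - 1) ^ k) b = 0 → ∃ c : K, b = c • 1 := by
      intro k
      induction k with
      | zero => intro b _ h; exact ⟨0, by simpa using h⟩
      | succ k ih =>
        intro b hb h
        rw [pow_succ, End.mul_apply] at h
        obtain ⟨c, hc⟩ := ih _ (fun g hg => by
          have h1 := hb (x⁻¹ * g * x) ((hx _).2 (by simpa [mul_assoc] using hg))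
          have h2 : (g : End K V) * cj K x b = cj K x b * g := by
            rw [cj_apply]
            calc _ = (x : End K V) * (((x⁻¹ * g * x : (End K V)ˣ) : End K V) * b) *
                ((x⁻¹ : (End K V)ˣ) : End K V) := by simp [mul_assoc]
              _ = _ := by rw [h1]; simp [mul_assoc]
          rw [LinearMap.sub_apply, End.one_apply, mul_sub, sub_mul, h2, hb g hg]) h
        have h3 := congrArg (LinearMap.trace K V) hc
        rw [LinearMap.sub_apply, End.one_apply, map_sub, cj_apply, LinearMap.trace_mul_comm,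
          ← mul_assoc, Units.inv_mul, one_mul, sub_self, map_smul, LinearMap.trace_one,
          smul_eq_mul] at h3
        have h4 : c = 0 := (mul_eq_zero.1 h3.symm).resolve_right hD0
        rw [h4, zero_smul, LinearMap.sub_apply, End.one_apply, sub_eq_zero] at hc
        exact hirr.schur hb ((hcj _).1 hc)
    intro b hb
    refine key P b hb ?_
    rw [frob K p n, cj_pow, hxP]
    simp [cj_apply]
  -- a basis of the endomorphism algebra
  let T := (Zc Q).subgroupOf Q
  let v : Q ⧸ T → End K V := fun c => ((c.out : Q) : (End K V)ˣ)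
  have : Fintype (Q ⧸ T) := Fintype.ofFinite _
  have hli : LinearIndependent K v := by
    rw [Fintype.linearIndependent_iff]
    intro a ha c
    have h1 := congrArg (fun t => av S (((((c.out : Q) : (End K V)ˣ)⁻¹ : (End K V)ˣ) : End K V) * t)) ha
    simp only [Finset.mul_sum, map_sum, mul_smul_comm, map_smul, mul_zero, map_zero] at h1
    rw [Finset.sum_eq_single c] at h1
    · have : av S (1 : End K V) = (S.card : K) • 1 := by simpa using av_smul_one (S := S) (1 : K)
      rw [Units.inv_mul, this, smul_smul] at h1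
      exact (mul_eq_zero.1 ((smul_eq_zero.1 h1).resolve_right one_ne_zero)).resolve_right hS0
    · intro d _ hd
      rw [← Units.val_mul, av_zero hS hsc hcl (mul_mem (inv_mem c.out.2) d.out.2), smul_zero]
      intro h'
      apply hd
      rw [← d.out_eq', ← c.out_eq', eq_comm, QuotientGroup.eq]
      exact h'
    · simp
  have hsp : ⊤ ≤ Submodule.span K (Set.range v) := by
    intro f _
    have h1 := av_id hS hsc hcl f
    rw [← Submodule.smul_mem_iff _ (mul_ne_zero hZ0 hS0), ← h1]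
    refine Submodule.sum_mem _ fun g hg => ?_
    obtain ⟨c, hc⟩ := hB _ fun k hk => av_comm hS hk (f * g)
    rw [hc, smul_mul_assoc, one_mul]
    refine Submodule.smul_mem _ _ ?_
    let g' : Q := ⟨g⁻¹, inv_mem ((hS g).1 hg)⟩
    obtain ⟨z, hz⟩ := QuotientGroup.mk_out_eq_mul T g'
    obtain ⟨d, hd⟩ := hsc _ (inv_mem (show (((z : Q)) : (End K V)ˣ) ∈ Zc Q from z.2))
    have : ((g⁻¹ : (End K V)ˣ) : End K V) = d • v (g' : Q ⧸ T) := by
      have e : g⁻¹ = (((g' : Q ⧸ T).out : Q) : (End K V)ˣ) * ((z : Q) : (End K V)ˣ)⁻¹ := by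
        rw [hz]; simp [g']
      rw [e, Units.val_mul, hd]; simp [v]
    rw [this]
    exact Submodule.smul_mem _ _ (Submodule.subset_span ⟨_, rfl⟩)
  have hcard := finrank_eq_card_basis (Basis.mk hli hsp)
  rw [Module.finrank_linearMap, hD, ← Nat.card_eq_fintype_card] at hcard
  obtain ⟨k, hk⟩ := hQ.exists_card_eq
  have hdvd : P - 1 ∣ q ^ k := by
    rw [← hk]
    exact (Dvd.intro _ hcard).trans (Subgroup.card_quotient_dvd_card T)
  obtain ⟨m, -, hm⟩ := (Nat.dvd_prime_pow hq.out).1 hdvd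
  refine ⟨m, ?_, hm, hidx⟩
  rcases m with _ | m
  · rw [hm] at hs; exact absurd (by simpa using hs) hs0
  · omega

end

end Cfsg.Agent.HHB
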