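import Cfsg.Agent.HHB.B

/-! Hall–Higman Theorem B: the induction. -/

set_option autoImplicit false

namespace Cfsg.Agent.HHB

open Module

universe u v

section
variable {K : Type u} {V : Type v} [Field K] [AddCommGroup V] [Module K V]

/-- the conclusion, witnessed inside `W` -/
def Cn (p q n : ℕ) (Q : Subgroup (End K V)ˣ) (x : (End K V)ˣ) (W : Submodule K V) : Prop :=
  (∃ v ∈ W, (((x : End K V) - 1) ^ (p ^ n - 1)) v ≠ 0) ∨
    ((∃ g ∈ Q, ∃ h ∈ Q, g * h ≠ h * g) ∧ ∃ n₀ m, 1 ≤ n₀ ∧ n₀ ≤ n ∧ 1 ≤ m ∧ p ^ n₀ - 1 = q ^ m ∧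
      ∃ v ∈ W, (((x : End K V) - 1) ^ (p ^ (n - n₀) * (p ^ n₀ - 1) - 1)) v ≠ 0)

theorem Cn.mono {p q n : ℕ} {Q Q' : Subgroup (End K V)ˣ} {x : (End K V)ˣ} {W W' : Submodule K V}
    (h : Cn p q n Q x W) (h1 : Q ≤ Q') (h2 : W ≤ W') : Cn p q n Q' x W' := by
  rcases h with ⟨v, hv, h⟩ | ⟨⟨g, hg, k, hk, h⟩, n₀, m, a, b, c, d, v, hv, e⟩
  · exact Or.inl ⟨v, h2 hv, h⟩
  · exact Or.inr ⟨⟨g, h1 hg, k, h1 hk, h⟩, n₀, m, a, b, c, d, v, h2 hv, e⟩

/-- the stabiliser of a subspace -/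
def St (W : Submodule K V) : Subgroup (End K V)ˣ where
  carrier := {g | (∀ v ∈ W, (g : End K V) v ∈ W) ∧ ∀ v ∈ W, ((g⁻¹ : (End K V)ˣ) : End K V) v ∈ W}
  one_mem' := ⟨fun v hv => by simpa using hv, fun v hv => by simpa using hv⟩
  mul_mem' := fun {a b} ha hb => ⟨fun v hv => by simpa using ha.1 _ (hb.1 v hv),
    fun v hv => by simpa using hb.2 _ (ha.2 v hv)⟩
  inv_mem' := fun {a} ha => ⟨ha.2, by simpa using ha.1⟩

/-- restriction to a subspace -/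
noncomputable def res (W : Submodule K V) : St W →* (End K W)ˣ :=
  MonoidHom.toHomUnits
    { toFun := fun g => ((g : (End K V)ˣ) : End K V).restrict g.2.1
      map_one' := by ext v; simp
      map_mul' := fun a b => by ext v; simp }

theorem res_apply (W : Submodule K V) (g : St W) (v : W) :
    (((res W g : (End K W)ˣ) : End K W) v : V) = ((g : (End K V)ˣ) : End K V) v := rfl

theorem res_pow (W : Submodule K V) (g : St W) (k : ℕ) (v : W) :
    (((((res W g : (End K W)ˣ) : End K W) - 1) ^ k) v : V) =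
      ((((g : (End K V)ˣ) : End K V) - 1) ^ k) v := by
  induction k with
  | zero => rfl
  | succ k ih =>
    rw [pow_succ', pow_succ', End.mul_apply, End.mul_apply, ← ih, LinearMap.sub_apply,
      LinearMap.sub_apply, Submodule.coe_sub, res_apply]
    rfl

theorem pow_inv_mem {W W' : Submodule K V} {x : End K V} (h : ∀ v ∈ W, x v ∈ W) (k : ℕ)
    (h' : W' = W := by rfl) : ∀ v ∈ W, (x ^ k) v ∈ W' := by
  subst h'
  induction k with
  | zero => intro v hv; simpa using hv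
  | succ k ih => intro v hv; rw [pow_succ', End.mul_apply]; exact h _ (ih v hv)

theorem mem_St {W : Submodule K V} {x : (End K V)ˣ} {P : ℕ} (hP : 0 < P) (hx : x ^ P = 1)
    (h : ∀ v ∈ W, (x : End K V) v ∈ W) : x ∈ St W := by
  refine ⟨h, ?_⟩
  have : x⁻¹ = x ^ (P - 1) := by
    rw [inv_eq_iff_mul_eq_one, ← pow_succ', Nat.sub_add_cancel hP, hx]
  rw [this, Units.val_pow_eq_pow_val]
  exact pow_inv_mem h _

end

theorem conj_iff {Γ : Type*} [Group Γ] {Q : Subgroup Γ} {x : Γ} {P : ℕ} (hP : 0 < P)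
    (hx : x ^ P = 1) (h : ∀ g ∈ Q, x * g * x⁻¹ ∈ Q) (g : Γ) : g ∈ Q ↔ x * g * x⁻¹ ∈ Q := by
  refine ⟨h g, fun hg => ?_⟩
  have : ∀ k, ∀ g ∈ Q, x ^ k * g * (x ^ k)⁻¹ ∈ Q := by
    intro k
    induction k with
    | zero => intro g hg; simpa using hg
    | succ k ih =>
      intro g hg
      have := h _ (ih g hg)
      rw [pow_succ']; convert this using 1; group
  have h2 := this (P - 1) _ hg
  have e : x ^ (P - 1) * x = 1 := by rw [← pow_succ, Nat.sub_add_cancel hP, hx]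
  have : x ^ (P - 1) * (x * g * x⁻¹) * (x ^ (P - 1))⁻¹ =
      (x ^ (P - 1) * x) * g * (x ^ (P - 1) * x)⁻¹ := by group
  rwa [this, e, one_mul, inv_one, mul_one] at h2

theorem conj_pow_iff {Γ : Type*} [Group Γ] {Q : Subgroup Γ} {x : Γ}
    (h : ∀ g, g ∈ Q ↔ x * g * x⁻¹ ∈ Q) (k : ℕ) : ∀ g, g ∈ Q ↔ x ^ k * g * (x ^ k)⁻¹ ∈ Q := by
  induction k with
  | zero => intro g; simp
  | succ k ih =>
    intro g
    rw [ih g, h, pow_succ']
    congr! 1; group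

theorem comm_y {Γ : Type*} [Group Γ] {x g : Γ} {p n i : ℕ} (hp : p.Prime) (hx : x ^ (p ^ n) = 1)
    (h0 : 0 < i) (h1 : i < p ^ n) (h : x ^ i * g = g * x ^ i) :
    x ^ (p ^ (n - 1)) * g = g * x ^ (p ^ (n - 1)) := by
  obtain ⟨a, ha, e⟩ := (Nat.dvd_prime_pow hp).1 (Nat.gcd_dvd_right i (p ^ n))
  have han : a ≠ n := by
    rintro rfl
    have := Nat.le_of_dvd h0 (e ▸ Nat.gcd_dvd_left i (p ^ a))
    omega
  have c : Commute (x ^ (p ^ a)) g := by
    rw [← e, ← zpow_natCast, Nat.gcd_eq_gcd_ab, zpow_add, zpow_mul, zpow_mul, zpow_natCast,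
      zpow_natCast, hx, one_zpow, mul_one]
    exact Commute.zpow_left h _
  rw [show n - 1 = a + (n - 1 - a) by omega, pow_add, pow_mul]
  exact c.pow_left _

/-- the induction hypothesis -/
def IH (K : Type u) [Field K] (p q N : ℕ) : Prop :=
  ∀ (V : Type v) [AddCommGroup V] [Module K V] [FiniteDimensional K V] (Q : Subgroup (End K V)ˣ)
    [Finite Q] (x : (End K V)ˣ) (n : ℕ), finrank K V + Nat.card Q + n < N → IsPGroup q Q → 1 ≤ n →
    x ^ (p ^ n) = 1 → (∀ g, g ∈ Q ↔ x * g * x⁻¹ ∈ Q) →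
    (∃ g ∈ Q, x ^ (p ^ (n - 1)) * g ≠ g * x ^ (p ^ (n - 1))) → Cn p q n Q x ⊤

variable {K : Type u} {V : Type v} [Field K] [AddCommGroup V] [Module K V]

theorem IH.restrict {p q N : ℕ} (hp : 0 < p) (ih : IH.{u, v} K p q N) [FiniteDimensional K V]
    {Q : Subgroup (End K V)ˣ} [Finite Q] {x : (End K V)ˣ} {n : ℕ} {W : Submodule K V}
    (hN : finrank K W + Nat.card Q + n < N) (hQ : IsPGroup q Q) (hn : 1 ≤ n)
    (hxP : x ^ (p ^ n) = 1) (hx : ∀ g, g ∈ Q ↔ x * g * x⁻¹ ∈ Q)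
    (hQW : ∀ g ∈ Q, ∀ v ∈ W, (g : End K V) v ∈ W) (hxW : ∀ v ∈ W, (x : End K V) v ∈ W)
    (hnc : ∃ g ∈ Q, ∃ v ∈ W, ((x ^ (p ^ (n - 1)) * g : (End K V)ˣ) : End K V) v ≠
      ((g * x ^ (p ^ (n - 1)) : (End K V)ˣ) : End K V) v) : Cn p q n Q x W := by
  have hP : 0 < p ^ n := pow_pos hp n
  have h1 : Q ≤ St W := fun g hg => ⟨hQW g hg, hQW _ (inv_mem hg)⟩
  let x' : St W := ⟨x, mem_St hP hxP hxW⟩
  have hx' : x' ^ (p ^ n) = 1 := Subtype.ext hxP
  let e := Subgroup.subgroupOfEquivOfLe h1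
  have : Finite (Q.subgroupOf (St W)) := Finite.of_equiv _ e.symm.toEquiv
  let Q' := (Q.subgroupOf (St W)).map (res W)
  have : Finite Q' := Finite.of_surjective _ ((res W).subgroupMap_surjective (Q.subgroupOf (St W)))
  have hc : Nat.card Q' ≤ Nat.card Q := by
    rw [← Nat.card_congr e.toEquiv]
    exact Nat.card_le_card_of_surjective _ ((res W).subgroupMap_surjective (Q.subgroupOf (St W)))
  have h2 : (res W x') ^ (p ^ n) = 1 := by rw [← map_pow, hx', map_one]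
  have key := ih W Q' (res W x') n (by omega) ((hQ.of_equiv e.symm).map _) hn h2
    (conj_iff hP h2 (by
      rintro _ ⟨g, hg, rfl⟩
      exact ⟨x' * g * x'⁻¹, (hx g).1 hg, by simp⟩))
    (by
      obtain ⟨g, hg, v, hv, h⟩ := hnc
      refine ⟨res W ⟨g, h1 hg⟩, ⟨_, hg, rfl⟩, fun h' => h ?_⟩
      rw [← map_pow, ← map_mul, ← map_mul] at h'
      have := congrArg (fun t : (End K W)ˣ => (((t : End K W) ⟨v, hv⟩ : W) : V)) h'
      simpa only [res_apply, Subgroup.coe_mul, Subgroup.coe_pow] using this)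
  rcases key with ⟨v, -, h⟩ | ⟨⟨_, ⟨g, hg, rfl⟩, _, ⟨k, hk, rfl⟩, h⟩, n₀, m, a, b, c, d, v, -, h'⟩
  · exact Or.inl ⟨v, v.2, fun h' => h (Subtype.ext ((res_pow W x' _ v).trans h'))⟩
  · refine Or.inr ⟨⟨g, hg, k, hk, fun h0 => h ?_⟩, n₀, m, a, b, c, d, v, v.2,
      fun h0 => h' (Subtype.ext ((res_pow W x' _ v).trans h0))⟩
    rw [← map_mul, ← map_mul, show g * k = k * g from Subtype.ext h0]

end Cfsg.Agent.HHB
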