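import Cfsg.Agent.HHB.C

/-! Hall–Higman Theorem B: Clifford step and the main induction. -/

set_option autoImplicit false

namespace Cfsg.Agent.HHB

open Module
open scoped commutatorElement

universe u v

variable {K : Type u} {V : Type v} [Field K] [AddCommGroup V] [Module K V]

/-- weight spaces of the centre of `Q` -/
noncomputable def Ew (Q : Subgroup (End K V)ˣ) (μ : Zc Q → K) : Submodule K V :=
  ⨅ z : Zc Q, End.eigenspace (((z : (End K V)ˣ)) : End K V) (μ z)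

theorem mem_Ew {Q : Subgroup (End K V)ˣ} {μ : Zc Q → K} {v : V} :
    v ∈ Ew Q μ ↔ ∀ z : Zc Q, ((z : (End K V)ˣ) : End K V) v = μ z • v := by
  simp [Ew, Submodule.mem_iInf, End.mem_eigenspace_iff]

theorem Ew_indep (Q : Subgroup (End K V)ˣ) : iSupIndep (Ew Q) := by
  refine (End.independent_iInf_maxGenEigenspace_of_forall_mapsTo
    (fun z : Zc Q => ((z : (End K V)ˣ) : End K V)) fun i j φ => ?_).mono fun μ => ?_
  · refine End.mapsTo_maxGenEigenspace_of_comm ?_ φ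
    have := j.2.2 _ i.2.1
    exact (congrArg Units.val this).symm
  · exact iInf_mono fun z => End.eigenspace_le_maxGenEigenspace

theorem Ew_inv {Q : Subgroup (End K V)ˣ} {μ : Zc Q → K} {g : (End K V)ˣ} (hg : g ∈ Q) :
    ∀ v ∈ Ew Q μ, (g : End K V) v ∈ Ew Q μ := by
  intro v hv
  rw [mem_Ew] at hv ⊢
  intro z
  rw [← End.mul_apply, ← Units.val_mul, ← z.2.2 g hg, Units.val_mul, End.mul_apply, hv, map_smul]

theorem exists_Ew [IsAlgClosed K] [FiniteDimensional K V] [Nontrivial V]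
    (Q : Subgroup (End K V)ˣ) : ∃ μ, Ew Q μ ≠ ⊥ := by
  classical
  have hex : ∃ d, ∃ W : Submodule K V, W ≠ ⊥ ∧ (∀ g ∈ Q, ∀ v ∈ W, (g : End K V) v ∈ W) ∧
      finrank K W = d := ⟨_, ⊤, top_ne_bot, fun _ _ _ _ => trivial, rfl⟩
  obtain ⟨W, h0, hW, hd⟩ := Nat.find_spec hex
  have : Nontrivial W := Submodule.nontrivial_iff_ne_bot.2 h0
  have key : ∀ z : Zc Q, ∃ c : K, ∀ v ∈ W, ((z : (End K V)ˣ) : End K V) v = c • v := by
    intro z
    obtain ⟨c, hc⟩ := End.exists_eigenvalue (((z : (End K V)ˣ) : End K V).restrict (hW _ z.2.1))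
    obtain ⟨w, hw⟩ := hc.exists_hasEigenvector
    let W' := W ⊓ End.eigenspace ((z : (End K V)ˣ) : End K V) c
    have h1 : W' ≠ ⊥ := by
      rw [Submodule.ne_bot_iff]
      refine ⟨w, ⟨w.2, End.mem_eigenspace_iff.2 ?_⟩, fun h => hw.2 (Subtype.ext h)⟩
      exact congrArg Subtype.val hw.apply_eq_smul
    have h2 : ∀ g ∈ Q, ∀ v ∈ W', (g : End K V) v ∈ W' := by
      intro g hg v hv
      refine ⟨hW g hg v hv.1, End.mem_eigenspace_iff.2 ?_⟩
      rw [← End.mul_apply, ← Units.val_mul, ← z.2.2 g hg, Units.val_mul, End.mul_apply,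
        End.mem_eigenspace_iff.1 hv.2, map_smul]
    have h3 : W' = W := Submodule.eq_of_le_of_finrank_le inf_le_left
      (hd ▸ Nat.find_min' hex ⟨W', h1, h2, rfl⟩)
    exact ⟨c, fun v hv => End.mem_eigenspace_iff.1 (h3.ge hv).2⟩
  choose μ hμ using key
  exact ⟨μ, fun h => h0 (eq_bot_iff.2 fun v hv => h ▸ mem_Ew.2 fun z => hμ z v hv)⟩

theorem clifford [IsAlgClosed K] [FiniteDimensional K V] [Nontrivial V] {p q N n : ℕ}
    [hp : Fact p.Prime] [CharP K p] (ih : IH.{u, v} K p q N) {Q : Subgroup (End K V)ˣ} [Finite Q]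
    {x : (End K V)ˣ} (hN : finrank K V + Nat.card Q + n ≤ N) (hQ : IsPGroup q Q) (hn : 1 ≤ n)
    (hxP : x ^ (p ^ n) = 1) (hx : ∀ g, g ∈ Q ↔ x * g * x⁻¹ ∈ Q) (hirr : Irr Q x)
    (hnc : ∀ W : Submodule K V, (∀ g ∈ Q, ∀ v ∈ W, (g : End K V) v ∈ W) →
      (∀ v ∈ W, ((x ^ (p ^ (n - 1)) : (End K V)ˣ) : End K V) v ∈ W) → W ≠ ⊥ →
      ∃ g ∈ Q, ∃ v ∈ W, ((x ^ (p ^ (n - 1)) * g : (End K V)ˣ) : End K V) v ≠
      ((g * x ^ (p ^ (n - 1)) : (End K V)ˣ) : End K V) v) :
    (∀ z ∈ Zc Q, ∃ c : K, (z : End K V) = c • 1) ∨ Cn p q n Q x ⊤ := by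
  obtain ⟨μ, hμ⟩ := exists_Ew Q
  let t : Zc Q → Zc Q := fun z => ⟨x⁻¹ * z * x, (hx _).2 (by simpa [mul_assoc] using z.2.1),
    fun g hg => by
      have := z.2.2 _ ((hx g).1 hg)
      calc g * (x⁻¹ * z * x) = x⁻¹ * (x * g * x⁻¹ * z) * x := by group
        _ = _ := by rw [this]; group⟩
  let f : (Zc Q → K) → (Zc Q → K) := fun ν => ν ∘ t
  have hf : ∀ ν, ∀ v ∈ Ew Q ν, (x : End K V) v ∈ Ew Q (f ν) := by
    intro ν v hv
    rw [mem_Ew] at hv ⊢
    intro z
    rw [show f ν z = ν (t z) from rfl, ← map_smul, ← hv]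
    simp [t, ← End.mul_apply, mul_assoc]
  have hfk : ∀ k ν, ∀ v ∈ Ew Q ν, ((x : End K V) ^ k) v ∈ Ew Q (f^[k] ν) := by
    intro k ν v hv
    induction k with
    | zero => simpa using hv
    | succ k ih => rw [pow_succ', End.mul_apply, Function.iterate_succ_apply']; exact hf _ _ ih
  by_cases h1 : f μ = μ
  · left
    have := (hirr (Ew Q μ) (fun g hg => Ew_inv hg) (by simpa [h1] using hf μ)).resolve_left hμ
    intro z hz
    refine ⟨μ ⟨z, hz⟩, LinearMap.ext fun v => ?_⟩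
    simpa using mem_Ew.1 (this ▸ Submodule.mem_top : v ∈ Ew Q μ) ⟨z, hz⟩
  right
  have hper : Function.IsPeriodicPt f (p ^ n) μ := by
    obtain ⟨v, hv, hv0⟩ := (Submodule.ne_bot_iff _).1 hμ
    have h2 := hfk (p ^ n) μ v hv
    rw [← Units.val_pow_eq_pow_val, hxP, Units.val_one, End.one_apply] at h2
    by_contra hne
    exact hv0 (Submodule.disjoint_def.1 ((Ew_indep Q).pairwiseDisjoint hne) v h2 hv)
  have hpm : p ∣ Function.minimalPeriod f μ := by
    obtain ⟨a, -, ha⟩ := (Nat.dvd_prime_pow hp.out).1 hper.minimalPeriod_dvd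
    rcases a with _ | a
    · exact absurd (Function.minimalPeriod_eq_one_iff_isFixedPt.1 ha) h1
    · rw [ha]; exact dvd_pow_self _ (by omega)
  have hmp : 0 < Function.minimalPeriod f μ := hper.minimalPeriod_pos (pow_pos hp.out.pos n)
  let s : Set (Zc Q → K) := {ν | ∃ j, p ∣ j ∧ ν = f^[j] μ}
  let s' : Set (Zc Q → K) := {ν | ∃ j, ¬ p ∣ j ∧ ν = f^[j] μ}
  have hss : Disjoint s s' := by
    rw [Set.disjoint_left]
    rintro _ ⟨i, hi, rfl⟩ ⟨j, hj, e⟩
    rw [← Function.iterate_mod_minimalPeriod_eq, ← Function.iterate_mod_minimalPeriod_eq (n := j),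
      Function.iterate_eq_iterate_iff_of_lt_minimalPeriod (Nat.mod_lt _ hmp) (Nat.mod_lt _ hmp)] at e
    exact hj (((Nat.ModEq.of_dvd hpm e).dvd_iff dvd_rfl).1 hi)
  let U : Submodule K V := ⨆ ν ∈ s, Ew Q ν
  let U' : Submodule K V := ⨆ ν ∈ s', Ew Q ν
  have hUU : Disjoint U U' := (Ew_indep Q).disjoint_biSup_biSup hss
  have hUQ : ∀ g ∈ Q, ∀ v ∈ U, (g : End K V) v ∈ U := fun g hg =>
    (iSup₂_le fun ν hν v hv => le_iSup₂_of_le (f := fun ν (_ : ν ∈ s) => Ew Q ν) ν hν le_rfl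
      (Ew_inv hg v hv) : U ≤ U.comap (g : End K V))
  have hUx : ∀ k, p ∣ k → ∀ v ∈ U, ((x : End K V) ^ k) v ∈ U := fun k hk =>
    (iSup₂_le (by
      rintro _ ⟨j, hj, rfl⟩ v hv
      exact le_iSup₂_of_le (f := fun ν (_ : ν ∈ s) => Ew Q ν) _
        ⟨k + j, dvd_add hk hj, (Function.iterate_add_apply f k j μ).symm⟩ le_rfl
        (hfk k _ v hv)) : U ≤ U.comap ((x : End K V) ^ k))
  have hUx' : ∀ k, ¬ p ∣ k → ∀ v ∈ U, ((x : End K V) ^ k) v ∈ U' := fun k hk =>
    (iSup₂_le (by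
      rintro _ ⟨j, hj, rfl⟩ v hv
      exact le_iSup₂_of_le (f := fun ν (_ : ν ∈ s') => Ew Q ν) _
        ⟨k + j, fun h => hk ((Nat.dvd_add_left hj).1 h),
          (Function.iterate_add_apply f k j μ).symm⟩ le_rfl
        (hfk k _ v hv)) : U ≤ U'.comap ((x : End K V) ^ k))
  have hU0 : U ≠ ⊥ := fun h => hμ (eq_bot_iff.2 (h ▸
    le_iSup₂_of_le (f := fun ν (_ : ν ∈ s) => Ew Q ν) μ ⟨0, dvd_zero _, rfl⟩ le_rfl))
  have key : ∀ v ∈ U, v ≠ 0 → (((x : End K V) - 1) ^ (p - 1)) v ≠ 0 := by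
    intro v hv h0 h
    have e := geo K p 1 (x : End K V)
    rw [pow_one] at e
    rw [← e, show p = p - 1 + 1 from (Nat.sub_add_cancel hp.out.pos).symm, Finset.sum_range_succ',
      LinearMap.add_apply, pow_zero, End.one_apply, LinearMap.sum_apply] at h
    refine h0 (Submodule.disjoint_def.1 hUU v hv ?_)
    rw [eq_neg_of_add_eq_zero_right h]
    refine neg_mem (Submodule.sum_mem _ fun i hi => hUx' _ (fun h' => ?_) v hv)
    have := Nat.le_of_dvd (by omega) h'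
    rw [Finset.mem_range] at hi
    omega
  have lift : ∀ k, ∀ v ∈ U, ((((x ^ p : (End K V)ˣ) : End K V) - 1) ^ k) v ≠ 0 →
      (((x : End K V) - 1) ^ (p * (k + 1) - 1)) v ≠ 0 := by
    intro k v hv h
    have e := frob K p 1 (x : End K V)
    rw [pow_one] at e
    have := hp.out.pos
    rw [show p * (k + 1) - 1 = (p - 1) + p * k by rw [mul_add]; omega, pow_add, pow_mul, e,
      End.mul_apply]
    refine key _ (pow_inv_mem (fun w hw => ?_) k rfl v hv) h
    exact sub_mem (hUx p dvd_rfl w hw) hw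
  obtain ⟨n, rfl⟩ : ∃ k, n = k + 1 := ⟨n - 1, by omega⟩
  rcases n with _ | n
  · obtain ⟨v, hv, hv0⟩ := (Submodule.ne_bot_iff _).1 hU0
    exact Or.inl ⟨v, trivial, by simpa using key v hv hv0⟩
  have hfin : finrank K U ≤ finrank K V := Submodule.finrank_le U
  have e1 : (x ^ p) ^ (p ^ (n + 1 - 1)) = x ^ (p ^ (n + 1 + 1 - 1)) := by
    rw [← pow_mul, ← pow_succ']; rfl
  have := ih.restrict hp.out.pos (W := U) (x := x ^ p) (n := n + 1) (by omega) hQ (by omega)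
    (by rw [← pow_mul, ← pow_succ', hxP]) (conj_pow_iff hx p) hUQ (hUx p dvd_rfl)
    (by rw [e1]; exact hnc U hUQ (hUx _ (dvd_pow_self _ (by omega))) hU0)
  rcases this with ⟨v, hv, h⟩ | ⟨h0, n₀, m, a, b, c, d, v, hv, h⟩
  · refine Or.inl ⟨v, trivial, ?_⟩
    have := lift _ v hv h
    rwa [Nat.sub_add_cancel (Nat.one_le_pow _ _ hp.out.pos), ← pow_succ'] at this
  · refine Or.inr ⟨h0, n₀, m, a, by omega, c, d, v, trivial, ?_⟩
    have := lift _ v hv h
    have h2 : 2 ≤ p ^ n₀ := hp.out.two_le.trans (Nat.le_self_pow (by omega) p)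
    rwa [Nat.sub_add_cancel (Nat.mul_pos (pow_pos hp.out.pos _) (by omega)), ← mul_assoc,
      ← pow_succ', show n + 1 - n₀ + 1 = n + 1 + 1 - n₀ by omega] at this

theorem step [IsAlgClosed K] {p q N : ℕ} [hp : Fact p.Prime] [CharP K p] [hq : Fact q.Prime]
    (hpq : q ≠ p) (ih : IH.{u, v} K p q N) : IH.{u, v} K p q (N + 1) := by
  classical
  intro V _ _ _ Q _ x n hN hQ hn hxP hx hnc
  by_contra hcon
  have hP : 0 < p ^ n := pow_pos hp.out.pos n
  set y := x ^ (p ^ (n - 1)) with hy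
  have hyp : y ^ p = 1 := by rw [hy, ← pow_mul, ← pow_succ, Nat.sub_add_cancel hn, hxP]
  have hyQ : ∀ g, g ∈ Q ↔ y * g * y⁻¹ ∈ Q := conj_pow_iff hx _
  have hxy : x * y = y * x := ((Commute.refl x).pow_right _).eq
  have hmin : ∀ R : Subgroup (End K V)ˣ, R ≤ Q → R ≠ Q → (∀ g ∈ R, x * g * x⁻¹ ∈ R) →
      ∀ g ∈ R, y * g = g * y := by
    intro R h1 h2 h3
    by_contra h
    push Not at h
    have : Finite R := Finite.of_injective _ (Subgroup.inclusion_injective h1)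
    have hlt : Nat.card R < Nat.card Q :=
      lt_of_le_of_ne (Subgroup.card_le_of_le h1) fun e => h2 (Subgroup.eq_of_le_of_card_ge h1 e.ge)
    exact hcon ((ih V R x n (by omega) (hQ.to_le h1) hn hxP (conj_iff hP hxP h3) h).mono h1 le_rfl)
  -- `Q = [Q, y]`
  have hR : ∀ T : Subgroup (End K V)ˣ, (∀ g ∈ Q, y * g * y⁻¹ * g⁻¹ ∈ T) → Q ≤ T := by
    intro T hT
    let R := Subgroup.closure {c | ∃ g ∈ Q, c = y * g * y⁻¹ * g⁻¹}
    have h1 : R ≤ Q := (Subgroup.closure_le _).2 (by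
      rintro _ ⟨g, hg, rfl⟩; exact mul_mem ((hyQ g).1 hg) (inv_mem hg))
    have h2 : R ≤ T := (Subgroup.closure_le _).2 (by rintro _ ⟨g, hg, rfl⟩; exact hT g hg)
    by_cases h : R = Q
    · exact h ▸ h2
    exfalso
    have h3 : R ≤ R.comap (MulAut.conj x).toMonoidHom := (Subgroup.closure_le _).2 (by
      rintro _ ⟨g, hg, rfl⟩
      refine Subgroup.subset_closure ⟨x * g * x⁻¹, (hx g).1 hg, ?_⟩
      have e : y = x * y * x⁻¹ := by rw [hxy]; group
      show x * (y * g * y⁻¹ * g⁻¹) * x⁻¹ = _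
      conv_rhs => rw [e]
      group)
    obtain ⟨g, hg, hne⟩ := hnc
    have hc : y * g * y⁻¹ * g⁻¹ ∈ R := Subgroup.subset_closure ⟨g, hg, rfl⟩
    have h4 : Commute y (y * g * y⁻¹ * g⁻¹) := hmin R h1 h h3 _ hc
    have h5 : (y * g * y⁻¹ * g⁻¹) ^ p = 1 := by
      have e : (y⁻¹ * (y * g * y⁻¹ * g⁻¹)) ^ p = 1 := by
        rw [show y⁻¹ * (y * g * y⁻¹ * g⁻¹) = g * y⁻¹ * g⁻¹ by group, conj_pow, inv_pow, hyp]; group
      rwa [h4.inv_left.mul_pow, inv_pow, hyp, inv_one, one_mul] at e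
    obtain ⟨k, hk⟩ := hQ ⟨_, h1 hc⟩
    have h6 : (y * g * y⁻¹ * g⁻¹) ^ (q ^ k) = 1 := congrArg Subtype.val hk
    have h7 := pow_gcd_eq_one.2 ⟨h5, h6⟩
    rw [((Nat.coprime_primes hp.out hq.out).2 hpq.symm).pow_right k, pow_one] at h7
    apply hne
    calc y * g = (y * g * y⁻¹ * g⁻¹) * (g * y) := by group
      _ = g * y := by rw [h7, one_mul]
  have htriv : ∀ W : Submodule K V, (∀ g ∈ Q, ∀ v ∈ W, (g : End K V) v ∈ W) →
      (∀ v ∈ W, (y : End K V) v ∈ W) → (∀ g ∈ Q, ∀ v ∈ W, ((y * g : (End K V)ˣ) : End K V) v =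
        ((g * y : (End K V)ˣ) : End K V) v) → ∀ g ∈ Q, ∀ v ∈ W, (g : End K V) v = v := by
    intro W h1 h2 h3
    let T : Subgroup (End K V)ˣ :=
      { carrier := {g | ∀ v ∈ W, (g : End K V) v = v}
        one_mem' := fun v _ => rfl
        mul_mem' := fun {a b} ha hb v hv => by rw [Units.val_mul, End.mul_apply, hb v hv, ha v hv]
        inv_mem' := fun {a} ha v hv => by
          conv_lhs => rw [← ha v hv]
          rw [← End.mul_apply, Units.inv_mul, End.one_apply] }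
    refine hR T fun g hg v hv => ?_
    have := h3 g hg _ ((mem_St hp.out.pos hyp h2).2 _ (h1 _ (inv_mem hg) v hv))
    rw [mul_assoc, Units.val_mul, End.mul_apply, Units.val_mul y⁻¹, End.mul_apply, this]
    simp [← End.mul_apply, mul_assoc]
  have hyW : ∀ W : Submodule K V, (∀ v ∈ W, (x : End K V) v ∈ W) → ∀ v ∈ W, (y : End K V) v ∈ W :=
    fun W h => pow_inv_mem h _
  have hprop : ∀ W : Submodule K V, (∀ g ∈ Q, ∀ v ∈ W, (g : End K V) v ∈ W) →
      (∀ v ∈ W, (x : End K V) v ∈ W) → W ≠ ⊤ → ∀ g ∈ Q, ∀ v ∈ W, (g : End K V) v = v := by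
    intro W h1 h2 h3
    refine htriv W h1 (hyW W h2) ?_
    by_contra h
    push Not at h
    have := Submodule.finrank_lt h3
    exact hcon ((ih.restrict hp.out.pos (by omega) hQ hn hxP hx h1 h2 h).mono le_rfl le_top)
  have hfix : ∀ v : V, (∀ g ∈ Q, (g : End K V) v = v) → v = 0 := by
    intro v hv
    by_contra hv0
    let S : Finset (End K V)ˣ := (Set.toFinite (Q : Set (End K V)ˣ)).toFinset
    have hS : ∀ g, g ∈ S ↔ g ∈ Q := fun g => Set.Finite.mem_toFinset _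
    have hS0 : (S.card : K) ≠ 0 := by
      intro h0
      obtain ⟨k, hk⟩ := hQ.exists_card_eq
      have : Nat.card Q = S.card := Nat.subtype_card S hS
      rw [CharP.cast_eq_zero_iff K p, ← this, hk] at h0
      exact hpq ((Nat.prime_dvd_prime_iff_eq hp.out hq.out).1 (hp.out.dvd_of_dvd_pow h0)).symm
    let e : End K V := ∑ g ∈ S, (g : End K V)
    have he : ∀ w, (∀ g ∈ Q, (g : End K V) w = w) → e w = (S.card : K) • w := by
      intro w hw
      rw [LinearMap.sum_apply, Finset.sum_congr rfl fun g hg => hw g ((hS g).1 hg),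
        Finset.sum_const, Nat.cast_smul_eq_nsmul]
    have he1 : ∀ a : (End K V)ˣ, (∀ g, g ∈ Q ↔ a * g * a⁻¹ ∈ Q) → e * a = a * e := by
      intro a ha
      rw [Finset.sum_mul, Finset.mul_sum]
      refine Finset.sum_nbij' (fun h => a⁻¹ * h * a) (fun h => a * h * a⁻¹) ?_ ?_ ?_ ?_ ?_
      · intro h hh; exact (hS _).2 ((ha _).2 (by simpa [mul_assoc] using (hS _).1 hh))
      · intro h hh; exact (hS _).2 ((ha _).1 ((hS _).1 hh))
      · intro h _; simp [mul_assoc]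
      · intro h _; simp [mul_assoc]
      · intro h _; simp [mul_assoc]
    have he2 : ∀ g ∈ Q, e * g = e := by
      intro g hg
      rw [he1 g fun k => ⟨fun h => mul_mem (mul_mem hg h) (inv_mem hg), fun h => by
        simpa [mul_assoc] using mul_mem (mul_mem (inv_mem hg) h) hg⟩, Finset.mul_sum]
      exact sum_left hS hg fun h => (h : End K V)
    have h1 := hprop (LinearMap.ker e) (fun g hg w hw => by
        rw [LinearMap.mem_ker, ← End.mul_apply, he2 g hg]; exact hw)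
      (fun w hw => by
        rw [LinearMap.mem_ker, ← End.mul_apply, he1 x hx, End.mul_apply, LinearMap.mem_ker.1 hw,
          map_zero])
      (fun h => by
        have : v ∈ LinearMap.ker e := h ▸ Submodule.mem_top
        rw [LinearMap.mem_ker, he v hv] at this
        exact hv0 ((smul_eq_zero.1 this).resolve_left hS0))
    obtain ⟨g, hg, hne⟩ := hnc
    apply hne
    have : g = 1 := by
      ext w
      have h2 : (g : End K V) w - w ∈ LinearMap.ker e := by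
        rw [LinearMap.mem_ker, map_sub, ← End.mul_apply, he2 g hg, sub_self]
      have h3 := he _ fun k hk => h1 k hk _ h2
      rw [LinearMap.mem_ker.1 h2] at h3
      exact sub_eq_zero.1 ((smul_eq_zero.1 h3.symm).resolve_left hS0)
    rw [this, mul_one, one_mul]
  have hirr : Irr Q x := by
    intro W h1 h2
    by_cases h : W = ⊤
    · exact Or.inr h
    · exact Or.inl (eq_bot_iff.2 fun v hv => hfix v fun g hg => hprop W h1 h2 h g hg v hv)
  have : Nontrivial V := by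
    by_contra h
    rw [not_nontrivial_iff_subsingleton] at h
    obtain ⟨g, -, hne⟩ := hnc
    exact hne (Units.ext (LinearMap.ext fun v => Subsingleton.elim _ _))
  have hsc := (clifford ih (by omega) hQ hn hxP hx hirr fun W h1 h2 h3 => by
    by_contra h
    push Not at h
    exact h3 (eq_bot_iff.2 fun v hv => hfix v fun g hg => htriv W h1 h2 h g hg v hv)).resolve_right
      hcon
  have hQZ : ∃ g ∈ Q, g ∉ Zc Q := by
    obtain ⟨g, hg, hne⟩ := hnc
    refine ⟨g, hg, fun h => hne ?_⟩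
    obtain ⟨c, hc⟩ := hsc g h
    exact Units.ext (by rw [Units.val_mul, Units.val_mul, hc]; simp)
  have hnor : ∀ D : Subgroup (End K V)ˣ, D ≤ Q → D ≠ Q → (∀ g ∈ D, x * g * x⁻¹ ∈ D) →
      (∀ g ∈ Q, ∀ d ∈ D, g * d * g⁻¹ ∈ D) → D ≤ Zc Q := by
    intro D h1 h2 h3 h4 d hd
    refine ⟨h1 hd, fun g hg => Subgroup.mem_centralizer_singleton_iff.1
      (hR (Subgroup.centralizer {d}) (fun g hg => ?_) hg)⟩
    rw [Subgroup.mem_centralizer_singleton_iff]
    have e1 := hmin D h1 h2 h3 d hd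
    have e2 := hmin D h1 h2 h3 _ (h4 _ (inv_mem hg) d hd)
    calc y * g * y⁻¹ * g⁻¹ * d = y * g * y⁻¹ * ((g⁻¹ * d * g⁻¹⁻¹ * y) * y⁻¹) * g⁻¹ := by group
      _ = (y * d) * y⁻¹ * (y * g * y⁻¹ * g⁻¹) := by rw [← e2]; group
      _ = _ := by rw [e1]; group
  have hcomm : ∀ a : (End K V)ˣ, (∀ g ∈ Q, a * g * a⁻¹ ∈ Q) → ∀ d ∈ ⁅Q, Q⁆, a * d * a⁻¹ ∈ ⁅Q, Q⁆ :=
    fun a ha => (Subgroup.commutator_le.2 fun g hg h hh => by
      have := Subgroup.commutator_mem_commutator (ha g hg) (ha h hh)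
      rw [Subgroup.mem_comap, map_commutatorElement]
      exact this : ⁅Q, Q⁆ ≤ ⁅Q, Q⁆.comap (MulAut.conj a).toMonoidHom)
  have hcl : ∀ g ∈ Q, ∀ h ∈ Q, g * h * g⁻¹ * h⁻¹ ∈ Zc Q := by
    have := hQ.isNilpotent
    have : Nontrivial Q := by
      obtain ⟨g, hg, hz⟩ := hQZ
      exact (Subgroup.nontrivial_iff_exists_ne_one Q).2 ⟨g, hg, fun h => hz (h ▸ one_mem _)⟩
    have h1 := IsSolvable.commutator_lt_top_of_nontrivial Q
    intro g hg h hh
    refine hnor ⁅Q, Q⁆ (Subgroup.commutator_le_self Q) (fun e => h1.ne ?_)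
      (hcomm x fun g => (hx g).1) (fun g hg => hcomm g fun k hk => mul_mem (mul_mem hg hk) (inv_mem hg))
      (Subgroup.commutator_mem_commutator hg hh)
    apply Subgroup.map_injective Q.subtype_injective
    rw [Subgroup.map_subtype_commutator, e, ← MonoidHom.range_eq_map, Subgroup.range_subtype]
  let D : Subgroup (End K V)ˣ :=
    { carrier := {g | g ∈ Q ∧ y * g * y⁻¹ * g⁻¹ ∈ Zc Q}
      one_mem' := ⟨one_mem _, by simp⟩
      mul_mem' := fun {a b} ha hb => ⟨mul_mem ha.1 hb.1, by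
        have := hb.2.2 _ (inv_mem ha.1)
        rw [show y * (a * b) * y⁻¹ * (a * b)⁻¹ = y * a * y⁻¹ * ((y * b * y⁻¹ * b⁻¹) * a⁻¹) by group,
          ← this, ← mul_assoc]
        exact mul_mem ha.2 hb.2⟩
      inv_mem' := fun {a} ha => ⟨inv_mem ha.1, by
        have := (inv_mem ha.2).2 _ (inv_mem ha.1)
        rw [show y * a⁻¹ * y⁻¹ * a⁻¹⁻¹ = (a⁻¹ * (y * a * y⁻¹ * a⁻¹)⁻¹) * a by group, this]
        simpa using inv_mem ha.2⟩ }
  have hZD : Zc Q ≤ D := fun z hz => ⟨hz.1, by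
    obtain ⟨c, hc⟩ := hsc z hz
    have : y * z = z * y := Units.ext (by rw [Units.val_mul, Units.val_mul, hc]; simp)
    rw [this]; simp⟩
  have hD : D ≤ Zc Q := by
    refine hnor D (fun g hg => hg.1) (fun e => ?_) (fun g hg => ⟨(hx g).1 hg.1, ?_⟩) fun g hg d hd => ?_
    · obtain ⟨g, hg, hz⟩ := hQZ
      exact hz (hR (Zc Q) (fun k hk => (e.ge hk).2) hg)
    · obtain ⟨c, hc⟩ := hsc _ hg.2
      have e : y = x * y * x⁻¹ := by rw [hxy]; group
      have e2 : x * (y * g * y⁻¹ * g⁻¹) = (y * g * y⁻¹ * g⁻¹) * x :=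
        Units.ext (by rw [Units.val_mul x, Units.val_mul _ x, hc]; simp)
      have : y * (x * g * x⁻¹) * y⁻¹ * (x * g * x⁻¹)⁻¹ = x * (y * g * y⁻¹ * g⁻¹) * x⁻¹ := by
        conv_lhs => rw [e]
        group
      rw [this, e2, mul_inv_cancel_right]
      exact hg.2
    · rw [show g * d * g⁻¹ = (g * d * g⁻¹ * d⁻¹) * d by group]
      exact mul_mem (hZD (hcl g hg d hd.1)) hd
  by_cases hs : ((x : End K V) - 1) ^ (p ^ n - 1) = 0
  · obtain ⟨m, h1, h2, h3⟩ := fin hpq hQ hn hxP hx hirr hsc hcl (fun g hg hz i h0 h1 h => by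
      have := comm_y hp.out hxP h0 h1 h
      exact hz (hD ⟨hg, by rw [← hy] at this; rw [this]; simp⟩)) hQZ hs
    refine hcon (Or.inr ⟨?_, n, m, hn, le_rfl, h1, h2, ?_⟩)
    · obtain ⟨g, hg, hz⟩ := hQZ
      by_contra h
      push Not at h
      exact hz ⟨hg, fun k hk => h k hk g hg⟩
    · by_contra h
      push Not at h
      refine h3 (LinearMap.ext fun v => ?_)
      simpa using h v trivial
  · refine hcon (Or.inl ?_)
    by_contra h
    push Not at h
    exact hs (LinearMap.ext fun v => h v trivial)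

theorem core [IsAlgClosed K] {p q : ℕ} [Fact p.Prime] [CharP K p] [Fact q.Prime]
    (hpq : q ≠ p) (N : ℕ) : IH.{u, v} K p q N := by
  induction N with
  | zero => intro V _ _ _ Q _ x n hN; omega
  | succ N ih => exact step hpq ih

end Cfsg.Agent.HHB
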